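import Mathlib

open CategoryTheory AlgebraicGeometry TopologicalSpace

namespace H5EssFT

universe u

theorem comp {X Y Z : Scheme.{u}} (f : X ⟶ Y) (g : Y ⟶ Z)
    (hf : ∀ U : Y.affineOpens, ∃ T : Set X.affineOpens, (⋃ V ∈ T, ((V : X.Opens) : Set ↥X)) = ((f ⁻¹ᵁ (U : Y.Opens)) : Set ↥X) ∧
        ∀ V ∈ T, ∃ e : (V : X.Opens) ≤ f ⁻¹ᵁ (U : Y.Opens), (f.appLE (U : Y.Opens) (V : X.Opens) e).hom.EssFiniteType)
    (hg : ∀ U : Z.affineOpens, ∃ T : Set Y.affineOpens, (⋃ V ∈ T, ((V : Y.Opens) : Set ↥Y)) = ((g ⁻¹ᵁ (U : Z.Opens)) : Set ↥Y) ∧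
        ∀ V ∈ T, ∃ e : (V : Y.Opens) ≤ g ⁻¹ᵁ (U : Z.Opens), (g.appLE (U : Z.Opens) (V : Y.Opens) e).hom.EssFiniteType)
    (U : Z.affineOpens) :
    ∃ T : Set X.affineOpens, (⋃ V ∈ T, ((V : X.Opens) : Set ↥X)) = (((f ≫ g) ⁻¹ᵁ (U : Z.Opens)) : Set ↥X) ∧
        ∀ V ∈ T, ∃ e : (V : X.Opens) ≤ (f ≫ g) ⁻¹ᵁ (U : Z.Opens), ((f ≫ g).appLE (U : Z.Opens) (V : X.Opens) e).hom.EssFiniteType := by
  obtain ⟨TY, hTY, hTY'⟩ := hg U
  choose TX hTX hTX' using hf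
  refine ⟨⋃ W ∈ TY, TX W, ?_, ?_⟩
  · ext x
    simp only [Set.mem_iUnion, exists_prop, SetLike.mem_coe]
    constructor
    · rintro ⟨V, ⟨W, hW, hV⟩, hxV⟩
      have h1 : x ∈ ((f ⁻¹ᵁ (W : Y.Opens)) : Set ↥X) := by
        rw [← hTX W]
        exact Set.mem_biUnion hV hxV
      have h2 : f x ∈ ((g ⁻¹ᵁ (U : Z.Opens)) : Set ↥Y) := by
        rw [← hTY]
        exact Set.mem_biUnion hW h1
      exact h2
    · intro hx
      have h2 : f x ∈ ((g ⁻¹ᵁ (U : Z.Opens)) : Set ↥Y) := hx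
      rw [← hTY] at h2
      obtain ⟨W, hW, hxW⟩ := Set.mem_iUnion₂.mp h2
      have h1 : x ∈ ((f ⁻¹ᵁ (W : Y.Opens)) : Set ↥X) := hxW
      rw [← hTX W] at h1
      obtain ⟨V, hV, hxV⟩ := Set.mem_iUnion₂.mp h1
      exact ⟨V, ⟨W, hW, hV⟩, hxV⟩
  · intro V hV
    obtain ⟨W, hW, hVW⟩ := Set.mem_iUnion₂.mp hV
    obtain ⟨e1, h1⟩ := hTX' W V hVW
    obtain ⟨e2, h2⟩ := hTY' W hW
    have e : (V : X.Opens) ≤ (f ≫ g) ⁻¹ᵁ (U : Z.Opens) := fun x hx => e2 (e1 hx)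
    refine ⟨e, ?_⟩
    have : (f ≫ g).appLE (U : Z.Opens) (V : X.Opens) e =
        g.appLE (U : Z.Opens) (W : Y.Opens) e2 ≫ f.appLE (W : Y.Opens) (V : X.Opens) e1 := by
      rw [Scheme.Hom.appLE_comp_appLE]
    rw [this, CommRingCat.hom_comp]
    exact h2.comp h1

/-- restriction to a basic open is essentially of finite type. -/
theorem essFiniteType_res {Y : Scheme.{u}} {U : Y.Opens} (hU : IsAffineOpen U) (a : Γ(Y, U))
    {D : Y.Opens} (i : D ⟶ U) (hD : D = Y.basicOpen a) :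
    (Y.presheaf.map i.op).hom.EssFiniteType := by
  letI := (Y.presheaf.map i.op).hom.toAlgebra
  haveI : IsLocalization.Away a Γ(Y, D) := hU.isLocalization_of_eq_basicOpen a i hD
  exact Algebra.EssFiniteType.of_isLocalization _ (Submonoid.powers a)

theorem key {X Y : Scheme.{u}} (f : X ⟶ Y) {U U' : Y.Opens} (hU : IsAffineOpen U)
    (hU' : IsAffineOpen U') (x : X) (hxU : f x ∈ U) (hxU' : f x ∈ U')
    (V : X.Opens) (hV : IsAffineOpen V) (hxV : x ∈ V) (e : V ≤ f ⁻¹ᵁ U)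
    (hφ : (f.appLE U V e).hom.EssFiniteType) :
    ∃ V' : X.Opens, IsAffineOpen V' ∧ x ∈ V' ∧ V' ≤ V ∧
      ∃ e' : V' ≤ f ⁻¹ᵁ U', (f.appLE U' V' e').hom.EssFiniteType := by
  obtain ⟨b, a, hab, hy⟩ := exists_basicOpen_le_affine_inter hU hU' (f x) ⟨hxU, hxU'⟩
  set b' := (f.appLE U V e).hom b with hb'
  have hV' : X.basicOpen b' = V ⊓ f ⁻¹ᵁ (Y.basicOpen b) := Scheme.basicOpen_appLE f V U e b
  refine ⟨X.basicOpen b', hV.basicOpen b', ?_, X.basicOpen_le b', ?_⟩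
  · rw [hV']; exact ⟨hxV, hy⟩
  · have e1 : X.basicOpen b' ≤ f ⁻¹ᵁ (Y.basicOpen b) := by rw [hV']; exact inf_le_right
    have hDU' : Y.basicOpen b ≤ U' := hab ▸ Y.basicOpen_le a
    have e' : X.basicOpen b' ≤ f ⁻¹ᵁ U' := e1.trans (fun z hz => hDU' hz)
    refine ⟨e', ?_⟩
    have hρ := essFiniteType_res hU b (homOfLE (Y.basicOpen_le b)) rfl
    have hρ' := essFiniteType_res hU' a (homOfLE hDU') hab
    have hres := essFiniteType_res hV b' (homOfLE (X.basicOpen_le b')) rfl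
    have h1 : Y.presheaf.map (homOfLE (Y.basicOpen_le b)).op ≫
        f.appLE (Y.basicOpen b) (X.basicOpen b') e1 =
        f.appLE U V e ≫ X.presheaf.map (homOfLE (X.basicOpen_le b')).op := by
      rw [Scheme.Hom.map_appLE, Scheme.Hom.appLE_map]
    have h2 : ((f.appLE (Y.basicOpen b) (X.basicOpen b') e1).hom.comp
        (Y.presheaf.map (homOfLE (Y.basicOpen_le b)).op).hom).EssFiniteType := by
      rw [← CommRingCat.hom_comp, h1, CommRingCat.hom_comp]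
      exact hφ.comp hres
    have hψ : (f.appLE (Y.basicOpen b) (X.basicOpen b') e1).hom.EssFiniteType :=
      RingHom.EssFiniteType.of_comp _ h2
    have h3 : f.appLE U' (X.basicOpen b') e' =
        Y.presheaf.map (homOfLE hDU').op ≫ f.appLE (Y.basicOpen b) (X.basicOpen b') e1 := by
      rw [Scheme.Hom.map_appLE]
    rw [h3, CommRingCat.hom_comp]
    exact hρ'.comp hψ

theorem main15258 {X Y : Scheme.{u}} (f : X ⟶ Y) :
    (∃ S : Set Y.affineOpens, (⋃ U ∈ S, ((U : Y.Opens) : Set ↥Y)) = Set.univ ∧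
      ∀ U ∈ S, ∃ T : Set X.affineOpens, (⋃ V ∈ T, ((V : X.Opens) : Set ↥X)) = ((f ⁻¹ᵁ (U : Y.Opens)) : Set ↥X) ∧
        ∀ V ∈ T, ∃ e : (V : X.Opens) ≤ f ⁻¹ᵁ (U : Y.Opens), (f.appLE (U : Y.Opens) (V : X.Opens) e).hom.EssFiniteType) ↔
    ∀ U : Y.affineOpens, ∃ T : Set X.affineOpens, (⋃ V ∈ T, ((V : X.Opens) : Set ↥X)) = ((f ⁻¹ᵁ (U : Y.Opens)) : Set ↥X) ∧
        ∀ V ∈ T, ∃ e : (V : X.Opens) ≤ f ⁻¹ᵁ (U : Y.Opens), (f.appLE (U : Y.Opens) (V : X.Opens) e).hom.EssFiniteType := by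
  constructor
  · rintro ⟨S, hS, hS'⟩ U'
    refine ⟨{V' : X.affineOpens | ∃ e' : (V' : X.Opens) ≤ f ⁻¹ᵁ (U' : Y.Opens),
      (f.appLE (U' : Y.Opens) (V' : X.Opens) e').hom.EssFiniteType}, ?_, fun V hV => hV⟩
    ext x
    simp only [Set.mem_iUnion, exists_prop, SetLike.mem_coe, Set.mem_setOf_eq]
    constructor
    · rintro ⟨V', ⟨e', -⟩, hxV'⟩
      exact e' hxV'
    · intro hx
      have hx' : f x ∈ (U' : Y.Opens) := hx
      have : f x ∈ (⋃ U ∈ S, ((U : Y.Opens) : Set ↥Y)) := by rw [hS]; trivial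
      obtain ⟨U, hUS, hxU⟩ := Set.mem_iUnion₂.mp this
      obtain ⟨T, hT, hT'⟩ := hS' U hUS
      have h1 : x ∈ ((f ⁻¹ᵁ (U : Y.Opens)) : Set ↥X) := hxU
      rw [← hT] at h1
      obtain ⟨V, hVT, hxV⟩ := Set.mem_iUnion₂.mp h1
      obtain ⟨e, hφ⟩ := hT' V hVT
      obtain ⟨V', hV'aff, hxV', -, e', h'⟩ := key f U.2 U'.2 x hxU hx' V V.2 hxV e hφ
      exact ⟨⟨V', hV'aff⟩, ⟨e', h'⟩, hxV'⟩
  · intro h
    refine ⟨Set.univ, ?_, fun U _ => h U⟩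
    ext y
    simp only [Set.mem_univ, Set.iUnion_true, Set.mem_iUnion, SetLike.mem_coe, iff_true]
    obtain ⟨_, ⟨V, hV, rfl⟩, hyV, -⟩ :=
      Y.isBasis_affineOpens.exists_subset_of_mem_open (Set.mem_univ y) isOpen_univ
    exact ⟨⟨V, hV⟩, hyV⟩

theorem main15259 {X Y : Scheme.{u}} (f : X ⟶ Y) :
    ((∃ S : Set Y.affineOpens, (⋃ U ∈ S, ((U : Y.Opens) : Set ↥Y)) = Set.univ ∧
      ∀ U ∈ S, ∃ T : Set X.affineOpens, (⋃ V ∈ T, ((V : X.Opens) : Set ↥X)) = ((f ⁻¹ᵁ (U : Y.Opens)) : Set ↥X) ∧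
        ∀ V ∈ T, ∃ e : (V : X.Opens) ≤ f ⁻¹ᵁ (U : Y.Opens), (f.appLE (U : Y.Opens) (V : X.Opens) e).hom.EssFiniteType) ∧ QuasiCompact f) ↔
    ∀ U : Y.affineOpens, ∃ T : Set X.affineOpens, T.Finite ∧ (⋃ V ∈ T, ((V : X.Opens) : Set ↥X)) = ((f ⁻¹ᵁ (U : Y.Opens)) : Set ↥X) ∧
        ∀ V ∈ T, ∃ e : (V : X.Opens) ≤ f ⁻¹ᵁ (U : Y.Opens), (f.appLE (U : Y.Opens) (V : X.Opens) e).hom.EssFiniteType := by
  constructor
  · rintro ⟨hloc, hqc⟩ U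
    obtain ⟨T, hT, hT'⟩ := (main15258 f).mp hloc U
    have hcomp : IsCompact ((f ⁻¹ᵁ (U : Y.Opens)) : Set ↥X) :=
      quasiCompact_iff_forall_isAffineOpen.mp hqc U U.2
    obtain ⟨t, ht⟩ := hcomp.elim_finite_subcover (fun V : T => ((V.1 : X.Opens) : Set ↥X))
      (fun V => (V.1 : X.Opens).isOpen) (by
        rw [← hT]
        intro x hx
        obtain ⟨V, hVT, hxV⟩ := Set.mem_iUnion₂.mp hx
        exact Set.mem_iUnion.mpr ⟨⟨V, hVT⟩, hxV⟩)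
    refine ⟨(fun V : T => V.1) '' (t : Set T), (t.finite_toSet).image _, ?_, ?_⟩
    · apply Set.Subset.antisymm
      · intro x hx
        obtain ⟨V, ⟨W, -, rfl⟩, hxV⟩ := Set.mem_iUnion₂.mp hx
        rw [← hT]
        exact Set.mem_biUnion W.2 hxV
      · intro x hx
        obtain ⟨V, hVt, hxV⟩ := Set.mem_iUnion₂.mp (ht hx)
        exact Set.mem_biUnion (Set.mem_image_of_mem _ hVt) hxV
    · rintro V ⟨W, -, rfl⟩
      exact hT' W.1 W.2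
  · intro h
    refine ⟨(main15258 f).mpr (fun U => ?_), ?_⟩
    · obtain ⟨T, -, hT, hT'⟩ := h U
      exact ⟨T, hT, hT'⟩
    · rw [quasiCompact_iff_forall_isAffineOpen]
      intro U hU
      obtain ⟨T, hfin, hT, -⟩ := h ⟨U, hU⟩
      change IsCompact ((f ⁻¹ᵁ U : X.Opens) : Set ↥X)
      have : ((f ⁻¹ᵁ U : X.Opens) : Set ↥X) = ⋃ V ∈ T, ((V : X.Opens) : Set ↥X) := hT.symm
      rw [this]
      exact hfin.isCompact_biUnion (fun V _ => V.2.isCompact)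

end H5EssFT
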