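
import Groth.Agent.Lib.Helper5.Geom2.EssFT

open CategoryTheory AlgebraicGeometry TopologicalSpace Limits

namespace H5EssFT

universe u

theorem essFiniteType_of_isIso {A B : CommRingCat.{u}} (φ : A ⟶ B) [IsIso φ] :
    φ.hom.EssFiniteType := by
  apply RingHom.FiniteType.essFiniteType
  exact RingHom.FiniteType.of_surjective _ (ConcreteCategory.bijective_of_isIso φ).2

set_option backward.isDefEq.respectTransparency false in
theorem baseChange_point {X Y Y' : Scheme.{u}} (f : X ⟶ Y) (g : Y' ⟶ Y)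
    {W : Y.Opens} (hW : IsAffineOpen W) {V : X.Opens} (hV : IsAffineOpen V) (e : V ≤ f ⁻¹ᵁ W)
    (hφ : (f.appLE W V e).hom.EssFiniteType)
    {U₁ : Y'.Opens} (hU₁ : IsAffineOpen U₁) (e₂ : U₁ ≤ g ⁻¹ᵁ W) :
    ∃ O : (pullback f g).Opens, IsAffineOpen O ∧
      (O : Set ↥(pullback f g)) = pullback.fst f g ⁻¹' V ∩ pullback.snd f g ⁻¹' U₁ ∧
      ∃ e' : O ≤ pullback.snd f g ⁻¹ᵁ U₁, ((pullback.snd f g).appLE U₁ O e').hom.EssFiniteType := by
  haveI : IsAffine V.toScheme := hV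
  haveI : IsAffine W.toScheme := hW
  haveI : IsAffine U₁.toScheme := hU₁
  set fV := f.resLE W V e with hfV
  set gU := g.resLE W U₁ e₂ with hgU
  set j := pullback.map fV gU f g V.ι U₁.ι W.ι (f.resLE_comp_ι e) (g.resLE_comp_ι e₂) with hj
  have hrange : Set.range j = pullback.fst f g ⁻¹' V ∩ pullback.snd f g ⁻¹' U₁ := by
    rw [hj, Scheme.Pullback.range_map, Scheme.Opens.range_ι, Scheme.Opens.range_ι]
  have hO : ((j ''ᵁ ⊤ : (pullback f g).Opens) : Set ↥(pullback f g)) = Set.range j := by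
    simp
  have e' : j ''ᵁ ⊤ ≤ pullback.snd f g ⁻¹ᵁ U₁ := by
    intro z hz
    have : z ∈ Set.range j := hO ▸ hz
    rw [hrange] at this
    exact this.2
  refine ⟨j ''ᵁ ⊤, (isAffineOpen_top _).image_of_isOpenImmersion j, hO.trans hrange, e', ?_⟩
  -- the small projection is essentially of finite type
  have hfVtop : fV.appTop.hom.EssFiniteType := by
    have : fV.appTop = W.topIso.hom ≫ f.appLE W V e ≫ V.topIso.inv := f.resLE_app_top e
    rw [this, CommRingCat.hom_comp, CommRingCat.hom_comp]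
    exact (essFiniteType_of_isIso _).comp (hφ.comp (essFiniteType_of_isIso _))
  have hfst : (pullback.fst gU fV).appTop.hom.EssFiniteType :=
    RingHom.EssFiniteType.isStableUnderBaseChange.pullback_fst_appTop _
      RingHom.EssFiniteType.respectsIso gU fV hfVtop
  have hsnd : (pullback.snd fV gU).appTop.hom.EssFiniteType := by
    have : pullback.snd fV gU = (pullbackSymmetry fV gU).hom ≫ pullback.fst gU fV := by simp
    rw [this, Scheme.Hom.comp_appTop, CommRingCat.hom_comp]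
    exact hfst.comp (essFiniteType_of_isIso _)
  -- compare
  have hcomm : j ≫ pullback.snd f g = pullback.snd fV gU ≫ U₁.ι := by
    simp [hj]
  have h1 : (pullback.snd f g).appLE U₁ (j ''ᵁ ⊤) e' ≫ (j.appIso ⊤).hom =
      U₁.ι.appLE U₁ ⊤ U₁.ι_preimage_self.ge ≫ (pullback.snd fV gU).appTop := by
    rw [Scheme.Hom.appIso_hom', Scheme.Hom.appLE_comp_appLE, Scheme.Hom.appTop,
      Scheme.Hom.app_eq_appLE, Scheme.Hom.appLE_comp_appLE]
    have aux : ∀ (a b : pullback fV gU ⟶ Y') (hab : a = b) (h1 : (⊤ : (pullback fV gU).Opens) ≤ a ⁻¹ᵁ U₁)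
        (h2 : (⊤ : (pullback fV gU).Opens) ≤ b ⁻¹ᵁ U₁), a.appLE U₁ ⊤ h1 = b.appLE U₁ ⊤ h2 := by
      intro a b hab h1 h2
      subst hab
      rfl
    exact aux _ _ hcomm _ _
  have h2 : (((j.appIso ⊤).hom).hom.comp
      ((pullback.snd f g).appLE U₁ (j ''ᵁ ⊤) e').hom).EssFiniteType := by
    rw [← CommRingCat.hom_comp, h1, CommRingCat.hom_comp]
    exact (essFiniteType_of_isIso _).comp hsnd
  exact (RingHom.EssFiniteType.respectsIso.cancel_right_isIso _ (j.appIso ⊤).hom).mp h2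

theorem main15261 {X Y Y' : Scheme.{u}} (f : X ⟶ Y) (g : Y' ⟶ Y)
    (hf : ∀ U : Y.affineOpens, ∃ T : Set X.affineOpens, (⋃ V ∈ T, ((V : X.Opens) : Set ↥X)) = ((f ⁻¹ᵁ (U : Y.Opens)) : Set ↥X) ∧
        ∀ V ∈ T, ∃ e : (V : X.Opens) ≤ f ⁻¹ᵁ (U : Y.Opens), (f.appLE (U : Y.Opens) (V : X.Opens) e).hom.EssFiniteType)
    (U : Y'.affineOpens) :
    ∃ T : Set (pullback f g).affineOpens, (⋃ V ∈ T, ((V : (pullback f g).Opens) : Set ↥(pullback f g))) = (((pullback.snd f g) ⁻¹ᵁ (U : Y'.Opens)) : Set ↥(pullback f g)) ∧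
        ∀ V ∈ T, ∃ e : (V : (pullback f g).Opens) ≤ (pullback.snd f g) ⁻¹ᵁ (U : Y'.Opens), ((pullback.snd f g).appLE (U : Y'.Opens) (V : (pullback f g).Opens) e).hom.EssFiniteType := by
  refine ⟨{O : (pullback f g).affineOpens | ∃ e' : (O : (pullback f g).Opens) ≤
      (pullback.snd f g) ⁻¹ᵁ (U : Y'.Opens),
      ((pullback.snd f g).appLE (U : Y'.Opens) (O : (pullback f g).Opens) e').hom.EssFiniteType},
    ?_, fun V hV => hV⟩
  ext z
  simp only [Set.mem_iUnion, exists_prop, SetLike.mem_coe, Set.mem_setOf_eq]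
  constructor
  · rintro ⟨O, ⟨e', -⟩, hzO⟩
    exact e' hzO
  · intro hz
    have hzU : pullback.snd f g z ∈ (U : Y'.Opens) := hz
    -- an affine neighbourhood of the image in `Y`
    obtain ⟨_, ⟨W, hW, rfl⟩, hyW, -⟩ :=
      Y.isBasis_affineOpens.exists_subset_of_mem_open
        (Set.mem_univ (g (pullback.snd f g z))) isOpen_univ
    have hcond : f (pullback.fst f g z) = g (pullback.snd f g z) := by
      rw [← Scheme.Hom.comp_apply, ← Scheme.Hom.comp_apply, pullback.condition]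
    obtain ⟨T, hT, hT'⟩ := hf ⟨W, hW⟩
    have hx : pullback.fst f g z ∈ ((f ⁻¹ᵁ W : X.Opens) : Set ↥X) := by
      change f (pullback.fst f g z) ∈ W
      rw [hcond]; exact hyW
    rw [← hT] at hx
    obtain ⟨V, hVT, hxV⟩ := Set.mem_iUnion₂.mp hx
    obtain ⟨e, hφ⟩ := hT' V hVT
    -- a basic open of `U` inside `g⁻¹ W`
    obtain ⟨a, ha1, ha2⟩ := U.2.exists_basicOpen_le
      (V := (U : Y'.Opens) ⊓ g ⁻¹ᵁ W) ⟨pullback.snd f g z, ⟨hzU, hyW⟩⟩ hzU
    have hU₁ : IsAffineOpen (Y'.basicOpen a) := U.2.basicOpen a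
    have e₂ : Y'.basicOpen a ≤ g ⁻¹ᵁ W := ha1.trans inf_le_right
    obtain ⟨O, hOaff, hOeq, e'₁, hP⟩ := baseChange_point f g hW V.2 e hφ hU₁ e₂
    have hzO : z ∈ O := by
      change z ∈ (O : Set ↥(pullback f g))
      rw [hOeq]
      exact ⟨hxV, ha2⟩
    have e' : O ≤ (pullback.snd f g) ⁻¹ᵁ (U : Y'.Opens) :=
      e'₁.trans (fun w hw => Y'.basicOpen_le a hw)
    refine ⟨⟨O, hOaff⟩, ⟨e', ?_⟩, hzO⟩
    have h3 : (pullback.snd f g).appLE (U : Y'.Opens) O e' =
        Y'.presheaf.map (homOfLE (Y'.basicOpen_le a)).op ≫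
          (pullback.snd f g).appLE (Y'.basicOpen a) O e'₁ := by
      rw [Scheme.Hom.map_appLE]
    rw [h3, CommRingCat.hom_comp]
    exact (essFiniteType_res U.2 a (homOfLE (Y'.basicOpen_le a)) rfl).comp hP

end H5EssFT
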