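import Mathlib

open CategoryTheory AlgebraicGeometry TopologicalSpace

namespace H5FlatImg

universe u

section Alg

variable {A B : Type*} [CommRing A] [CommRing B] [Algebra A B]

/-- the colon ideal `(I : t)`. -/
def colon (I : Ideal A) (t : A) : Ideal A := Submodule.comap (LinearMap.mulLeft A t) I

theorem mem_colon {I : Ideal A} {t x : A} : x ∈ colon I t ↔ t * x ∈ I := Iff.rfl

theorem colon_map (g : A) [IsLocalization.Away g B] (I : Ideal A) (t : A) :
    Ideal.map (algebraMap A B) (colon I t) =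
      colon (Ideal.map (algebraMap A B) I) (algebraMap A B t) := by
  apply le_antisymm
  · rw [Ideal.map_le_iff_le_comap]
    intro x hx
    rw [Ideal.mem_comap, mem_colon, ← map_mul]
    exact Ideal.mem_map_of_mem _ hx
  · intro c hc
    rw [mem_colon] at hc
    obtain ⟨n, b, hb⟩ := IsLocalization.Away.surj g c
    have h1 : algebraMap A B (t * b) ∈ Ideal.map (algebraMap A B) I := by
      rw [map_mul, ← hb, ← mul_assoc]
      exact Ideal.mul_mem_right _ _ hc
    rw [IsLocalization.mem_map_algebraMap_iff (Submonoid.powers g)] at h1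
    obtain ⟨⟨i, m⟩, him⟩ := h1
    rw [← map_mul, IsLocalization.eq_iff_exists (Submonoid.powers g)] at him
    obtain ⟨m', hm'⟩ := him
    have h2 : (m' : A) * m * b ∈ colon I t := by
      rw [mem_colon]
      have : t * ((m' : A) * m * b) = m' * (t * b * m) := by ring
      rw [this, hm']
      exact Ideal.mul_mem_left _ _ i.2
    have h3 : algebraMap A B ((m' : A) * m * b) ∈ Ideal.map (algebraMap A B) (colon I t) :=
      Ideal.mem_map_of_mem _ h2
    have hu : IsUnit (algebraMap A B ((m' : A) * m)) := by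
      rw [map_mul]
      exact (IsLocalization.map_units B m').mul (IsLocalization.map_units B m)
    have hg : IsUnit (algebraMap A B g ^ n) := (IsLocalization.Away.algebraMap_isUnit g).pow n
    rw [map_mul, ← hb] at h3
    have h4 := (Ideal.unit_mul_mem_iff_mem _ hu).mp h3
    exact (Ideal.mul_unit_mem_iff_mem _ hg).mp h4

end Alg

section Sch

variable {Y : Scheme.{u}}

/-- the colon ideal sheaf `(I : t)` for a global section `t`. -/
noncomputable def colonSheaf (I : Y.IdealSheafData) (t : Γ(Y, ⊤)) : Y.IdealSheafData where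
  ideal U := colon (I.ideal U) (Y.presheaf.map (homOfLE (le_top : U.1 ≤ ⊤)).op t)
  map_ideal_basicOpen U g := by
    letI : Algebra Γ(Y, U.1) Γ(Y, Y.basicOpen g) :=
      (Y.presheaf.map (homOfLE <| Y.basicOpen_le g).op).hom.toAlgebra
    haveI := U.2.isLocalization_basicOpen g
    have h1 := colon_map (B := Γ(Y, Y.basicOpen g)) g (I.ideal U)
      (Y.presheaf.map (homOfLE (le_top : U.1 ≤ ⊤)).op t)
    have h2 := I.map_ideal_basicOpen U g
    change Ideal.map (algebraMap Γ(Y, U.1) Γ(Y, Y.basicOpen g)) _ = _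
    change Ideal.map (algebraMap Γ(Y, U.1) Γ(Y, Y.basicOpen g)) _ = _ at h2
    rw [h1, h2]
    congr 1
    change (Y.presheaf.map _ ≫ Y.presheaf.map _).hom t = _
    rw [← Functor.map_comp]
    rfl

theorem isDomain_ΓSpec (R : Type u) [CommRing R] [IsDomain R] :
    IsDomain Γ(Spec (CommRingCat.of R), ⊤) :=
  (Scheme.ΓSpecIso (CommRingCat.of R)).commRingCatIsoToRingEquiv.injective.isDomain
    (Scheme.ΓSpecIso (CommRingCat.of R)).commRingCatIsoToRingEquiv.toRingHom

/-- sections of a flat scheme over a domain have no torsion. -/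
theorem eq_zero_of_flat {X : Scheme.{u}} (R : Type u) [CommRing R] [IsDomain R]
    (p : X ⟶ Spec (CommRingCat.of R)) [Flat p] (a : Γ(Spec (CommRingCat.of R), ⊤)) (ha : a ≠ 0)
    (W : X.Opens) (s : Γ(X, W)) (h : (p.appLE ⊤ W le_top).hom a * s = 0) : s = 0 := by
  haveI := isDomain_ΓSpec R
  have hreg : IsRegular a := isRegular_of_ne_zero ha
  apply TopCat.Sheaf.eq_of_locally_eq' X.sheaf
    (fun V : {V : X.affineOpens // V.1 ≤ W} => V.1.1) W (fun V => homOfLE V.2)
  · intro x hx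
    obtain ⟨_, ⟨V, hV, rfl⟩, hxV, hVW⟩ :=
      X.isBasis_affineOpens.exists_subset_of_mem_open hx W.2
    exact Opens.mem_iSup.mpr ⟨⟨⟨V, hV⟩, hVW⟩, hxV⟩
  · rintro ⟨V, hVW⟩
    have hfl := Flat.flat_appLE p (isAffineOpen_top _) V.2 le_top
    algebraize [(p.appLE ⊤ V.1 le_top).hom]
    have hsm : IsSMulRegular Γ(X, V.1) a := Module.Flat.isSMulRegular_of_isRegular hreg
    change (X.presheaf.map (homOfLE hVW).op).hom s = (X.presheaf.map (homOfLE hVW).op).hom 0
    rw [map_zero]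
    apply hsm
    change (p.appLE ⊤ V.1 le_top).hom a * _ = a • 0
    rw [smul_zero]
    have h2 := congrArg (X.presheaf.map (homOfLE hVW).op).hom h
    rw [map_mul, map_zero] at h2
    rw [← h2]
    congr 1
    change _ = (p.appLE ⊤ W le_top ≫ X.presheaf.map (homOfLE hVW).op).hom a
    rw [Scheme.Hom.appLE_map]

theorem colonSheaf_ker_le {X Y : Scheme.{u}} (R : Type u) [CommRing R] [IsDomain R]
    (p : X ⟶ Spec (CommRingCat.of R)) (q : Y ⟶ Spec (CommRingCat.of R)) (f : X ⟶ Y)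
    (w : f ≫ q = p) [Flat p] (a : Γ(Spec (CommRingCat.of R), ⊤)) (ha : a ≠ 0) :
    colonSheaf f.ker (q.appTop.hom a) ≤ f.ker := by
  subst w
  refine Scheme.IdealSheafData.le_ofIdeals_iff.mpr (fun U b hb => ?_)
  have hb' : (Y.presheaf.map (homOfLE (le_top : U.1 ≤ ⊤)).op).hom (q.appTop.hom a) * b
      ∈ f.ker.ideal U := hb
  have h1 := f.ideal_ker_le U hb'
  rw [RingHom.mem_ker] at h1 ⊢
  rw [map_mul] at h1
  apply eq_zero_of_flat R (f ≫ q) a ha (f ⁻¹ᵁ U) _
  convert h1 using 2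
  change _ = (q.app ⊤ ≫ Y.presheaf.map (homOfLE (le_top : U.1 ≤ ⊤)).op ≫ f.app U).hom a
  have key : (f ≫ q).appLE ⊤ (f ⁻¹ᵁ U) le_top =
      q.app ⊤ ≫ Y.presheaf.map (homOfLE (le_top : U.1 ≤ ⊤)).op ≫ f.app U := by
    rw [Scheme.Hom.comp_appLE]
    congr 1
    rw [Scheme.Hom.app_eq_appLE (f := f) (U := U.1)]
    exact (Scheme.Hom.map_appLE f (U := U.1) (U' := ⊤) (V := f ⁻¹ᵁ U.1) le_rfl
      (homOfLE (le_top : U.1 ≤ ⊤)).op).symm
  rw [key]

theorem appLE_top_comp {Z Y S : Scheme.{u}} (g : Z ⟶ Y) (q : Y ⟶ S) (U : Y.Opens) :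
    (g ≫ q).appLE ⊤ (g ⁻¹ᵁ U) le_top =
      q.app ⊤ ≫ Y.presheaf.map (homOfLE (le_top : U ≤ ⊤)).op ≫ g.app U := by
  rw [Scheme.Hom.comp_appLE]
  congr 1
  rw [Scheme.Hom.app_eq_appLE (f := g) (U := U)]
  exact (Scheme.Hom.map_appLE g (U := U) (U' := ⊤) (V := g ⁻¹ᵁ U) le_rfl
    (homOfLE (le_top : U ≤ ⊤)).op).symm

theorem main (R : Type u) [CommRing R] [IsDedekindDomain R]
    {X Y : Scheme.{u}} (p : X ⟶ Spec (CommRingCat.of R)) (q : Y ⟶ Spec (CommRingCat.of R))
    (f : X ⟶ Y) (w : f ≫ q = p) [Flat p] : Flat (f.imageι ≫ q) := by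
  have hU : ∀ U : Y.affineOpens, IsAffineOpen (f.imageι ⁻¹ᵁ U.1) :=
    fun U => U.2.preimage f.imageι
  apply HasRingHomProperty.of_iSup_eq_top (P := @Flat)
    (fun U : Y.affineOpens => (⟨f.imageι ⁻¹ᵁ U.1, hU U⟩ : f.image.affineOpens))
  · apply top_le_iff.mp
    intro x _
    obtain ⟨_, ⟨V, hV, rfl⟩, hxV, -⟩ :=
      Y.isBasis_affineOpens.exists_subset_of_mem_open (Set.mem_univ (f.imageι x)) isOpen_univ
    exact Opens.mem_iSup.mpr ⟨⟨V, hV⟩, hxV⟩
  · intro U
    rw [← RingHom.Flat.respectsIso.cancel_left_isIso (Scheme.ΓSpecIso (CommRingCat.of R)).inv]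
    set ψ : R →+* Γ(f.image, f.imageι ⁻¹ᵁ U.1) :=
      (((f.imageι ≫ q).appLE ⊤ (f.imageι ⁻¹ᵁ U.1) le_top).hom.comp
        (Scheme.ΓSpecIso (CommRingCat.of R)).inv.hom) with hψ
    letI : Algebra R Γ(f.image, f.imageι ⁻¹ᵁ U.1) := ψ.toAlgebra
    change Module.Flat R Γ(f.image, f.imageι ⁻¹ᵁ U.1)
    haveI : Module.IsTorsionFree R Γ(f.image, f.imageι ⁻¹ᵁ U.1) := by
      refine Module.IsTorsionFree.of_smul_eq_zero (fun r c hrc => ?_)
      by_cases hr : r = 0
      · exact Or.inl hr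
      right
      set a : Γ(Spec (CommRingCat.of R), ⊤) := (Scheme.ΓSpecIso (CommRingCat.of R)).inv.hom r
        with ha
      have ha0 : a ≠ 0 := by
        intro h0
        apply hr
        have : (Scheme.ΓSpecIso (CommRingCat.of R)).commRingCatIsoToRingEquiv.symm r = 0 := h0
        simpa using this
      obtain ⟨b, rfl⟩ := f.ker.subschemeι_app_surjective U c
      have h1 : ψ r * (f.imageι.app U).hom b = 0 := hrc
      have h2 : ψ r = (f.imageι.app U).hom
          ((Y.presheaf.map (homOfLE (le_top : U.1 ≤ ⊤)).op).hom (q.appTop.hom a)) := by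
        change ((f.imageι ≫ q).appLE ⊤ (f.imageι ⁻¹ᵁ U.1) le_top).hom a = _
        rw [appLE_top_comp]
        rfl
      rw [h2, ← map_mul, ← RingHom.mem_ker, f.ker.ker_subschemeι_app U] at h1
      have h3 : b ∈ (colonSheaf f.ker (q.appTop.hom a)).ideal U := h1
      have h4 := colonSheaf_ker_le R p q f w a ha0 U h3
      rw [← f.ker.ker_subschemeι_app U, RingHom.mem_ker] at h4
      exact h4
    infer_instance

end Sch

end H5FlatImg
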