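
import Groth.Agent.Lib.Helper5.Geom2.FlatImg

open CategoryTheory AlgebraicGeometry

namespace H5FlatImg

universe u

theorem main15151 (k : Type u) [Field k]
    (X Y : Scheme.{u}) (f : X ⟶ Y) (g : Y ⟶ Spec (CommRingCat.of (Polynomial k)))
    [QuasiCompact f] (hker : f.ker = ⊥) [Flat (f ≫ g)] : Flat g := by
  have h1 : Flat (f.imageι ≫ g) := main (Polynomial k) (f ≫ g) g f rfl
  haveI : IsIso f.imageι := (Scheme.isIso_subschemeι_iff_eq_bot _).mpr hker
  exact (MorphismProperty.cancel_left_of_respectsIso @Flat f.imageι g).mp h1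

end H5FlatImg
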