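import Mathlib.AlgebraicGeometry.AffineTransitionLimit
import Mathlib.AlgebraicGeometry.ResidueField

open AlgebraicGeometry CategoryTheory Limits

namespace H5LimRes

universe u

/-- every element of the residue field is a quotient of evaluations of sections on an affine open. -/
theorem exists_evaluation_div {X : Scheme.{u}} {U : X.Opens} (hU : IsAffineOpen U) (x : X)
    (hx : x ∈ U) (a : X.residueField x) :
    ∃ r t : Γ(X, U), X.evaluation U x hx t ≠ 0 ∧
      a * X.evaluation U x hx t = X.evaluation U x hx r := by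
  obtain ⟨z, rfl⟩ := X.residue_surjective x a
  letI := X.presheaf.algebra_section_stalk ⟨x, hx⟩
  haveI := hU.isLocalization_stalk ⟨x, hx⟩
  obtain ⟨⟨r, t⟩, h⟩ := IsLocalization.surj (hU.primeIdealOf ⟨x, hx⟩).asIdeal.primeCompl z
  refine ⟨r, t, ?_, ?_⟩
  · have hu : IsUnit (algebraMap Γ(X, U) (X.presheaf.stalk x) t) :=
      IsLocalization.map_units _ t
    have := hu.map (X.residue x).hom
    exact this.ne_zero
  · have := congrArg (X.residue x).hom h
    rw [map_mul] at this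
    exact this

theorem evaluation_appLE {X Y : Scheme.{u}} (f : X ⟶ Y) (V : Y.Opens) (U : X.Opens)
    (e : U ≤ f ⁻¹ᵁ V) (x : X) (hx : x ∈ U) (s : Γ(Y, V)) :
    X.evaluation U x hx (f.appLE V U e s) =
      (f.residueFieldMap x).hom (Y.evaluation V (f x) (e hx) s) := by
  have h1 := Scheme.evaluation_naturality_apply f x (e hx) s
  rw [h1]
  rw [Scheme.Hom.appLE]
  simp only [CommRingCat.comp_apply]
  rw [← Scheme.germ_residue, ← Scheme.germ_residue]
  simp only [CommRingCat.comp_apply]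
  congr 1
  exact TopCat.Presheaf.germ_res_apply X.presheaf (homOfLE e) x hx _


section limit

variable {I : Type u} [SmallCategory I] (D : I ⥤ Scheme.{u}) (c : Cone D) (hc : IsLimit c)

set_option backward.defeqAttrib.useBackward true in
set_option backward.isDefEq.respectTransparency false in
open Scheme.Opens in
include hc in
theorem exists_stage [IsCofiltered I] [∀ {i j} (f : i ⟶ j), IsAffineHom (D.map f)]
    (i : I) (V : (D.obj i).Opens) (hV : IsAffineOpen V) (r : Γ(c.pt, c.π.app i ⁻¹ᵁ V)) :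
    ∃ (j : Over i) (s : Γ(D.obj j.left, D.map j.hom ⁻¹ᵁ V))
      (h : c.π.app j.left ⁻¹ᵁ D.map j.hom ⁻¹ᵁ V = c.π.app i ⁻¹ᵁ V),
      r = (c.π.app j.left).appLE (D.map j.hom ⁻¹ᵁ V) (c.π.app i ⁻¹ᵁ V) h.ge s := by
  have (j : _) : IsAffine ((opensDiagram D i V).op.obj j).unop := hV.preimage _
  have (j : _) : IsAffine ((opensDiagram D i V).obj j) := hV.preimage _
  obtain ⟨⟨j⟩, s, hs⟩ := (Types.jointly_surjective_of_isColimit (isColimitOfPreserves
    (Scheme.Γ ⋙ forget _) (isLimitOpensCone D c hc i V).op) ((c.π.app i ⁻¹ᵁ V).topIso.inv r))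
  obtain ⟨s, rfl⟩ := (D.map j.hom ⁻¹ᵁ V).topIso.symm.commRingCatIsoToRingEquiv.surjective s
  have h : c.π.app j.left ⁻¹ᵁ D.map j.hom ⁻¹ᵁ V = c.π.app i ⁻¹ᵁ V := congr($(c.w j.hom) ⁻¹ᵁ V)
  refine ⟨j, s, h, ?_⟩
  convert!
    show r = ((topIso _).inv ≫ ((opensCone D c i V).π.app j).appTop ≫ (topIso _).hom) s from
      (c.π.app i ⁻¹ᵁ V).topIso.commRingCatIsoToRingEquiv.symm_apply_eq.mp hs.symm using 3
  simp [Scheme.Hom.app_eq_appLE, Scheme.Hom.resLE_appLE]

/-- the ranges of the residue field maps are monotone along the diagram -/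
theorem range_mono (s : c.pt) {i k : I} (g : k ⟶ i) :
    Set.range ((c.π.app i).residueFieldMap s).hom ⊆
      Set.range ((c.π.app k).residueFieldMap s).hom := by
  rintro _ ⟨b, rfl⟩
  have e : c.π.app k ≫ D.map g = c.π.app i := c.w g
  rw [Scheme.Hom.residueFieldMap_congr e.symm s]
  rw [Scheme.residueFieldMap_comp]
  simp only [CommRingCat.comp_apply]
  exact ⟨_, rfl⟩


include hc in
theorem main [IsCofiltered I] [∀ (i j : I) (f : i ⟶ j), IsAffineHom (D.map f)]
    (s : c.pt) (a : c.pt.residueField s) :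
    ∃ (i : I) (b : (D.obj i).residueField ((c.π.app i).base s)),
      ((c.π.app i).residueFieldMap s).hom b = a := by
  haveI : ∀ {i j : I} (f : i ⟶ j), IsAffineHom (D.map f) := fun f => inferInstance
  obtain ⟨i₀⟩ := IsCofiltered.nonempty (C := I)
  obtain ⟨_, ⟨V, hV : IsAffineOpen V, rfl⟩, hsV, -⟩ :=
    (D.obj i₀).isBasis_affineOpens.exists_subset_of_mem_open
      (Set.mem_univ ((c.π.app i₀).base s)) isOpen_univ
  haveI := isAffineHom_π_app D c hc i₀
  have hU : IsAffineOpen (c.π.app i₀ ⁻¹ᵁ V) := hV.preimage _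
  have hsU : s ∈ c.π.app i₀ ⁻¹ᵁ V := hsV
  obtain ⟨r, t, ht, hrt⟩ := exists_evaluation_div (X := c.pt) hU s hsU a
  change c.pt.evaluation _ s hsU t ≠ 0 at ht
  change a * c.pt.evaluation _ s hsU t = c.pt.evaluation _ s hsU r at hrt
  -- single elements come from stages
  have key : ∀ r : Γ(c.pt, c.π.app i₀ ⁻¹ᵁ V), ∃ j : I,
      c.pt.evaluation _ s hsU r ∈ Set.range ((c.π.app j).residueFieldMap s).hom := by
    intro r
    obtain ⟨j, r', h, rfl⟩ := exists_stage D c hc i₀ V hV r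
    exact ⟨j.left, _, (evaluation_appLE (c.π.app j.left) _ _ h.ge s hsU r').symm⟩
  obtain ⟨j₁, hj₁⟩ := key r
  obtain ⟨j₂, hj₂⟩ := key t
  let k := IsCofiltered.min j₁ j₂
  obtain ⟨b₁, hb₁⟩ := range_mono D c s (IsCofiltered.minToLeft j₁ j₂) hj₁
  obtain ⟨b₂, hb₂⟩ := range_mono D c s (IsCofiltered.minToRight j₁ j₂) hj₂
  refine ⟨k, b₁ / b₂, ?_⟩
  rw [map_div₀, hb₁, hb₂, ← hrt]
  exact mul_div_cancel_right₀ a ht

end limit

end H5LimRes
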