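import Mathlib

open CategoryTheory Limits Opposite

namespace H5MorSBC

universe v u

variable {C : Type u} [Category.{v} C] [HasPullbacks C]

/-- the functor of relative morphisms (general category version). -/
noncomputable def morS {S Z X : C} (g : Z ⟶ S) (f : X ⟶ S) : (Over S)ᵒᵖ ⥤ Type v :=
  (Over.pullback g ⋙ Over.map g).op ⋙ yoneda.obj (Over.mk f)

variable {X S S' : C} (gX : X ⟶ S) (h : S' ⟶ S)

set_option backward.isDefEq.respectTransparency false in
/-- base change iso -/
noncomputable def pbIso {T : C} (t : T ⟶ S') :
    pullback t (pullback.snd gX h) ≅ pullback (t ≫ h) gX where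
  hom := pullback.lift (pullback.fst _ _) (pullback.snd _ _ ≫ pullback.fst gX h) (by
    rw [← Category.assoc, pullback.condition, Category.assoc, Category.assoc, pullback.condition])
  inv := pullback.lift (pullback.fst _ _)
    (pullback.lift (pullback.snd _ _) (pullback.fst _ _ ≫ t) (by
      rw [← pullback.condition, Category.assoc])) (by simp)
  hom_inv_id := by
    apply pullback.hom_ext
    · simp
    · apply pullback.hom_ext
      · simp
      · simp [pullback.condition]
  inv_hom_id := by
    apply pullback.hom_ext <;> simp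

set_option backward.isDefEq.respectTransparency false in
@[reassoc (attr := simp)]
theorem pbIso_hom_fst {T : C} (t : T ⟶ S') :
    (pbIso gX h t).hom ≫ pullback.fst _ _ = pullback.fst _ _ := by
  simp [pbIso]

set_option backward.isDefEq.respectTransparency false in
@[reassoc (attr := simp)]
theorem pbIso_hom_snd {T : C} (t : T ⟶ S') :
    (pbIso gX h t).hom ≫ pullback.snd _ _ = pullback.snd _ _ ≫ pullback.fst gX h := by
  simp [pbIso]

set_option backward.isDefEq.respectTransparency false in
/-- the base change isomorphism of functors `Over S' ⥤ Over S`. -/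
noncomputable def Φ :
    (Over.pullback (pullback.snd gX h) ⋙ Over.map (pullback.snd gX h)) ⋙ Over.map h ≅
      Over.map h ⋙ Over.pullback gX ⋙ Over.map gX :=
  NatIso.ofComponents (fun T' => Over.isoMk (pbIso gX h T'.hom) (by
    simp [pullback.condition])) (by
    intro T'' T' φ
    ext
    simp only [Functor.comp_obj, Functor.comp_map, Over.comp_left, Over.isoMk_hom_left,
      Over.map_map_left, Over.pullback_map_left]
    apply pullback.hom_ext <;> simp)

set_option backward.isDefEq.respectTransparency false in
theorem main {Y : C} (gY : Y ⟶ S) (M : Over S) (e : (morS gX gY).RepresentableBy M) :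
    Nonempty ((morS (pullback.snd gX h) (pullback.snd gY h)).RepresentableBy
      (Over.mk (pullback.snd M.hom h))) := by
  have r1 : ((Over.map h).op ⋙ yoneda.obj M).RepresentableBy ((Over.pullback h).obj M) :=
    (Over.mapPullbackAdj h).representableBy M
  have i2 : (Over.map h).op ⋙ yoneda.obj M ≅ (Over.map h).op ⋙ morS gX gY :=
    Functor.isoWhiskerLeft _ e.toIso
  have i1 : yoneda.obj ((Over.pullback h).obj (Over.mk gY)) ≅
      (Over.map h).op ⋙ yoneda.obj (Over.mk gY) :=
    ((Over.mapPullbackAdj h).representableBy (Over.mk gY)).toIso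
  have i3 : (Over.map h).op ⋙ morS gX gY ≅
      ((Over.pullback (pullback.snd gX h) ⋙ Over.map (pullback.snd gX h)) ⋙ Over.map h).op ⋙
        yoneda.obj (Over.mk gY) :=
    Functor.isoWhiskerRight (NatIso.op (Φ gX h)) (yoneda.obj (Over.mk gY))
  have i4 : ((Over.pullback (pullback.snd gX h) ⋙ Over.map (pullback.snd gX h)) ⋙ Over.map h).op ⋙
        yoneda.obj (Over.mk gY) ≅ morS (pullback.snd gX h) (pullback.snd gY h) :=
    Functor.isoWhiskerLeft (Over.pullback (pullback.snd gX h) ⋙ Over.map (pullback.snd gX h)).op
      i1.symm
  exact ⟨r1.ofIso (i2 ≪≫ i3 ≪≫ i4)⟩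

end H5MorSBC
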