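import Mathlib

open CategoryTheory Limits Opposite AlgebraicGeometry

namespace H5SigmaMor

universe u

set_option backward.isDefEq.respectTransparency false in
theorem main {S Y : Scheme.{u}} {ι : Type u} [Finite ι] (X : ι → Scheme.{u}) (g : ∀ i, X i ⟶ S)
    (gY : Y ⟶ S) (T : Over S)
    (a : ∀ i, ((Over.map (g i)).obj ((Over.pullback (g i)).obj T) ⟶ Over.mk gY)) :
    ∃! b : ((Over.map (Sigma.desc g)).obj ((Over.pullback (Sigma.desc g)).obj T) ⟶ Over.mk gY),
      ∀ i, pullback.map T.hom (g i) T.hom (Sigma.desc g) (𝟙 T.left) (Sigma.ι X i) (𝟙 S)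
          ((Category.comp_id _).trans (Category.id_comp _).symm)
          ((Category.comp_id _).trans (Sigma.ι_desc g i).symm) ≫ b.left = (a i).left := by
  set c : ∀ i, pullback T.hom (g i) ⟶ pullback T.hom (Sigma.desc g) := fun i =>
    pullback.map T.hom (g i) T.hom (Sigma.desc g) (𝟙 T.left) (Sigma.ι X i) (𝟙 S)
          ((Category.comp_id _).trans (Category.id_comp _).symm)
          ((Category.comp_id _).trans (Sigma.ι_desc g i).symm) with hc
  have hvk := FinitaryExtensive.isVanKampen_finiteCoproducts (coproductIsCoproduct X)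
  have hpb : ∀ j : ι, IsPullback (c j) (pullback.snd T.hom (g j))
      (pullback.snd T.hom (Sigma.desc g)) (Sigma.ι X j) := by
    intro j
    refine IsPullback.of_right (h₁₂ := pullback.fst T.hom (Sigma.desc g)) (v₁₃ := T.hom)
      (h₂₂ := Sigma.desc g) ?_ (by simp [c]) (IsPullback.of_hasPullback _ _)
    have e1 : c j ≫ pullback.fst T.hom (Sigma.desc g) = pullback.fst T.hom (g j) := by
      simp [c]
    have e2 : Sigma.ι X j ≫ Sigma.desc g = g j := by simp
    rw [e1, e2]
    exact IsPullback.of_hasPullback _ _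
  obtain ⟨hcol⟩ := hvk.isUniversal (Cofan.mk _ c)
    (Discrete.natTrans fun i => pullback.snd T.hom (g i.as))
    (pullback.snd T.hom (Sigma.desc g)) (by ext ⟨i⟩; simp [c]) (.of_discrete _)
    (fun j => hpb j.as)
  have hw : Cofan.IsColimit.desc hcol (fun i => (a i).left) ≫ gY =
      pullback.snd T.hom (Sigma.desc g) ≫ Sigma.desc g := by
    refine Cofan.IsColimit.hom_ext hcol _ _ (fun i => ?_)
    rw [Cofan.IsColimit.fac_assoc]
    have h1 := Over.w (a i)
    simp only [Over.mk_hom, Over.map_obj_hom, Over.pullback_obj_hom] at h1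
    rw [h1]
    simp [c]
  refine ⟨Over.homMk (Cofan.IsColimit.desc hcol (fun i => (a i).left)) hw, fun i => ?_, ?_⟩
  · exact Cofan.IsColimit.fac hcol _ i
  · intro b' hb'
    apply Over.OverMorphism.ext
    refine Cofan.IsColimit.hom_ext hcol _ _ (fun i => ?_)
    simp only [Over.homMk_left]
    rw [Cofan.IsColimit.fac]
    exact hb' i

end H5SigmaMor
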